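import Groth.Agent.NormalizationNormal.Sub
import Groth.Agent.DomLib.Basic
import Mathlib.AlgebraicGeometry.Normalization

/-!
# The normalization in a normal scheme with locally finitely many components
-/

set_option autoImplicit false
set_option backward.isDefEq.respectTransparency false
set_option backward.isDefEq.respectTransparency.types false
set_option linter.style.haveILetI false

universe u

open AlgebraicGeometry CategoryTheory TopologicalSpace Opposite

noncomputable section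

namespace Groth.Agent.NormalizationNormal

open Groth.Agent Groth.Agent.EGA2Cone

variable {Y : Scheme.{u}}

/-- Two components through a point whose local ring is a domain coincide. -/
theorem component_unique (hY : Pi1.IsNormalScheme Y) {x η η' : Y}
    (hη : closure ({η} : Set Y) ∈ irreducibleComponents ↥Y) (hη' : closure ({η'} : Set Y) ∈ irreducibleComponents ↥Y)
    (h : η ⤳ x) (h' : η' ⤳ x) : η = η' := by
  obtain ⟨q, hq⟩ : η ∈ Set.range (Y.fromSpecStalk x).base := by rw [Scheme.range_fromSpecStalk]; exact h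
  obtain ⟨q', hq'⟩ : η' ∈ Set.range (Y.fromSpecStalk x).base := by rw [Scheme.range_fromSpecStalk]; exact h'
  haveI := (hY x).1
  let z : Spec (Y.presheaf.stalk x) := (⟨⊥, Ideal.isPrime_bot⟩ : PrimeSpectrum (Y.presheaf.stalk x))
  have hz : ∀ p : Spec (Y.presheaf.stalk x), z ⤳ p := fun p => (PrimeSpectrum.le_iff_specializes z p).1 bot_le
  have e1 : Y.fromSpecStalk x z = η :=
    DomLib.eq_of_specializes_max hη (by rw [← hq]; exact (hz q).map (Y.fromSpecStalk x).continuous)
  have e2 : Y.fromSpecStalk x z = η' :=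
    DomLib.eq_of_specializes_max hη' (by rw [← hq']; exact (hz q').map (Y.fromSpecStalk x).continuous)
  exact e1.symm.trans e2

theorem isOpen_component (hY : Pi1.IsNormalScheme Y)
    (hfin : LocallyFinite (fun Z : ↥(irreducibleComponents ↥Y) => (Z : Set ↥Y)))
    {η : Y} (hη : closure ({η} : Set Y) ∈ irreducibleComponents ↥Y) : IsOpen (closure ({η} : Set Y)) := by
  have hc : IsClosed (⋃ Z : {Z : ↥(irreducibleComponents ↥Y) // (Z : Set Y) ≠ closure {η}}, (Z.1 : Set Y)) :=
    (hfin.comp_injective Subtype.val_injective).isClosed_iUnion fun Z => isClosed_of_mem_irreducibleComponents _ Z.1.2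
  have he : closure ({η} : Set Y) =
      (⋃ Z : {Z : ↥(irreducibleComponents ↥Y) // (Z : Set Y) ≠ closure {η}}, (Z.1 : Set Y))ᶜ := by
    ext x
    obtain ⟨η', hη', h'⟩ := DomLib.exists_max x
    constructor
    · intro hx hx2
      obtain ⟨⟨⟨Z, hZ⟩, hne⟩, hxZ⟩ := Set.mem_iUnion.1 hx2
      have hirr := hZ.1
      have hg : closure ({hirr.genericPoint} : Set Y) = Z := by
        rw [hirr.closure_genericPoint (isClosed_of_mem_irreducibleComponents _ hZ)]
      have := component_unique hY hη (hg.symm ▸ hZ) (specializes_iff_mem_closure.2 hx)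
        (specializes_iff_mem_closure.2 (hg.symm ▸ hxZ))
      exact hne (hg.symm.trans (by rw [this]))
    · intro hx
      by_contra hn
      refine hx (Set.mem_iUnion.2 ⟨⟨⟨_, hη'⟩, fun e => hn ?_⟩, specializes_iff_mem_closure.1 h'⟩)
      rw [← e]; exact specializes_iff_mem_closure.1 h'
  rw [he]
  exact hc.isOpen_compl

theorem exists_integral_nhd (hY : Pi1.IsNormalScheme Y)
    (hfin : LocallyFinite (fun Z : ↥(irreducibleComponents ↥Y) => (Z : Set ↥Y))) (W : Y.Opens) :
    ∀ x ∈ W, ∃ N : Y.Opens, x ∈ N ∧ N ≤ W ∧ IsIntegral (N : Scheme.{u}) := fun x hx => by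
  obtain ⟨η, hη, h⟩ := DomLib.exists_max x
  let C : Y.Opens := ⟨closure {η}, isOpen_component hY hfin hη⟩
  have hxN : x ∈ C ⊓ W := ⟨specializes_iff_mem_closure.1 h, hx⟩
  refine ⟨C ⊓ W, hxN, inf_le_right, ?_⟩
  haveI : Nonempty ((C ⊓ W : Y.Opens) : Scheme.{u}) := ⟨⟨x, hxN⟩⟩
  have hirr : IsIrreducible ((C ⊓ W : Y.Opens) : Set Y) :=
    ⟨⟨x, hxN⟩, fun u v hu hv ⟨a, ha, hau⟩ ⟨b, hb, hbv⟩ => by
      obtain ⟨z, hz, h1, h2⟩ := isIrreducible_singleton.closure.2 (u ∩ W) (v ∩ W) (hu.inter W.2) (hv.inter W.2)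
        ⟨a, ha.1, hau, ha.2⟩ ⟨b, hb.1, hbv, hb.2⟩
      exact ⟨z, ⟨hz, h1.2⟩, h1.1, h2.1⟩⟩
  haveI : IrreducibleSpace ((C ⊓ W : Y.Opens) : Scheme.{u}) :=
    Subtype.irreducibleSpace hirr
  haveI : ∀ z, _root_.IsReduced (((C ⊓ W : Y.Opens) : Scheme.{u}).presheaf.stalk z) := fun z => by
    haveI := (hY z.1).1
    haveI : _root_.IsReduced (Y.presheaf.stalk z.1) := inferInstance
    exact isReduced_of_injective ((C ⊓ W).stalkIso z).hom.hom (ConcreteCategory.bijective_of_isIso ((C ⊓ W).stalkIso z).hom).1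
  haveI := isReduced_of_isReduced_stalk ((C ⊓ W : Y.Opens) : Scheme.{u})
  exact isIntegral_of_irreducibleSpace_of_isReduced _

variable {X : Scheme.{u}} (f : Y ⟶ X) [QuasiCompact f] [QuasiSeparated f]

/-- The map on sections over a piece of the normalization. -/
abbrev secMap (U : X.Opens) : Γ(f.normalization, f.fromNormalization ⁻¹ᵁ U) ⟶ Γ(Y, f ⁻¹ᵁ U) :=
  f.toNormalization.appLE _ _ (by simp [← Scheme.Hom.comp_preimage])

theorem secMap_props {U : X.Opens} (hU : IsAffineOpen U) :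
    Function.Injective (secMap f U).hom ∧
      ∀ z, (secMap f U).hom.IsIntegralElem z → z ∈ Set.range (secMap f U).hom := by
  letI := (f.app U).hom.toAlgebra
  have h := f.normalizationObjIso_hom_val hU
  let e := (f.normalizationObjIso hU).commRingCatIsoToRingEquiv
  have he : ∀ a, (secMap f U).hom a = (e a : Γ(Y, f ⁻¹ᵁ U)) := fun a => (congr($h a)).symm
  refine ⟨fun a b hab => e.injective (Subtype.ext ((he a).symm.trans (hab.trans (he b)))), fun z hz => ?_⟩
  obtain ⟨p, hp, hp0⟩ := hz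
  have hz' : IsIntegral (integralClosure Γ(X, U) Γ(Y, f ⁻¹ᵁ U)) z := by
    refine ⟨p.map e.toRingHom, hp.map _, ?_⟩
    rw [Polynomial.eval₂_map]
    have hc : (algebraMap (integralClosure Γ(X, U) Γ(Y, f ⁻¹ᵁ U)) Γ(Y, f ⁻¹ᵁ U)).comp e.toRingHom = (secMap f U).hom :=
      RingHom.ext fun a => (he a).symm
    rw [hc]
    exact hp0
  exact ⟨e.symm ⟨z, isIntegral_trans z hz'⟩, by rw [he, e.apply_symm_apply]⟩

theorem isNormal_normalization (hY : Pi1.IsNormalScheme Y)
    (hfin : LocallyFinite (fun Z : ↥(irreducibleComponents ↥Y) => (Z : Set ↥Y))) :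
    Pi1.IsNormalScheme f.normalization := fun c => by
  obtain ⟨_, ⟨U, hU, rfl⟩, hcU, -⟩ := X.isBasis_affineOpens.exists_subset_of_mem_open
    (show f.fromNormalization c ∈ (⊤ : X.Opens) from trivial) isOpen_univ
  obtain ⟨hi, hcl⟩ := secMap_props f hU
  have hW : IsAffineOpen (f.fromNormalization ⁻¹ᵁ U) := hU.preimage _
  let c' : (f.fromNormalization ⁻¹ᵁ U : f.normalization.Opens) := ⟨c, hcU⟩
  letI := f.normalization.presheaf.algebra_section_stalk c'
  haveI := hW.isLocalization_stalk c'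
  let P := (hW.primeIdealOf c').asIdeal
  have hQ := isDomain_integrallyClosed_localization_sub (W := f ⁻¹ᵁ U) (fun v _ => hY v)
    (exists_integral_nhd hY hfin _) (secMap f U).hom hi hcl P
  let e' : Localization.AtPrime P ≃ₐ[Γ(f.normalization, f.fromNormalization ⁻¹ᵁ U)] f.normalization.presheaf.stalk c :=
    IsLocalization.algEquiv P.primeCompl _ _
  haveI := hQ.2
  exact ⟨haveI := hQ.1; e'.symm.toMulEquiv.isDomain _, IsIntegrallyClosed.of_equiv e'.toRingEquiv⟩

theorem image_isMax (hY : Pi1.IsNormalScheme Y)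
    (hfin : LocallyFinite (fun Z : ↥(irreducibleComponents ↥Y) => (Z : Set ↥Y)))
    (y : Y) (hy : closure ({y} : Set Y) ∈ irreducibleComponents ↥Y) :
    closure ({f.toNormalization y} : Set f.normalization) ∈ irreducibleComponents ↥f.normalization := by
  obtain ⟨η, hη, hs⟩ := DomLib.exists_max (f.toNormalization y)
  suffices η = f.toNormalization y by rwa [this] at hη
  by_contra hne
  obtain ⟨_, ⟨U, hU, rfl⟩, hyU, -⟩ := X.isBasis_affineOpens.exists_subset_of_mem_open
    (show f.fromNormalization (f.toNormalization y) ∈ (⊤ : X.Opens) from trivial) isOpen_univ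
  let U' := f.fromNormalization ⁻¹ᵁ U
  have hU' : IsAffineOpen U' := hU.preimage _
  have hηU : η ∈ U' := hs.mem_open U'.2 hyU
  have hyW : y ∈ f ⁻¹ᵁ U := by
    change f.fromNormalization (f.toNormalization y) ∈ U at hyU
    rwa [← Scheme.Hom.comp_apply, f.toNormalization_fromNormalization] at hyU
  obtain ⟨r, hr, hr'⟩ : ∃ r : Γ(f.normalization, U'), η ∈ f.normalization.basicOpen r ∧
      f.toNormalization y ∉ f.normalization.basicOpen r := by
    have hns : ¬ (f.toNormalization y ⤳ η) := fun h => hne (h.antisymm hs).eq.symm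
    obtain ⟨O, hO, hηO, hyO⟩ := not_specializes_iff_exists_open.1 hns
    obtain ⟨r, hr, hηr⟩ := hU'.exists_basicOpen_le (V := ⟨O, hO⟩) ⟨η, hηO⟩ hηU
    exact ⟨r, hηr, fun h => hyO (hr h)⟩
  let a : Γ(Y, f ⁻¹ᵁ U) := secMap f U r
  have hle : f ⁻¹ᵁ U ≤ f.toNormalization ⁻¹ᵁ U' := by simp [U', ← Scheme.Hom.comp_preimage]
  have hay : y ∉ Y.basicOpen a := fun h => by
    rw [show a = f.toNormalization.appLE U' (f ⁻¹ᵁ U) hle r from rfl, Scheme.basicOpen_appLE] at h
    exact hr' h.2
  obtain ⟨N, hyN, hNW, hN⟩ := exists_integral_nhd hY hfin (f ⁻¹ᵁ U) y hyW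
  have ha0 : Y.presheaf.germ (f ⁻¹ᵁ U) y hyW a = 0 := by
    by_contra h0
    haveI := (hY y).1
    refine hay ((Y.mem_basicOpen a y hyW).2 ?_)
    -- the stalk at a generic point is a field
    have hfld : IsField (Y.presheaf.stalk y) := by
      by_contra hnf
      obtain ⟨Q, hQ, hQp⟩ : ∃ Q : Ideal (Y.presheaf.stalk y), Q ≠ IsLocalRing.maximalIdeal _ ∧ Q.IsPrime :=
        ⟨⊥, fun e => hnf (IsLocalRing.isField_iff_maximalIdeal_eq.2 e.symm), Ideal.isPrime_bot⟩
      let q : Spec (Y.presheaf.stalk y) := (⟨Q, hQp⟩ : PrimeSpectrum (Y.presheaf.stalk y))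
      have hsy : Y.fromSpecStalk y q ⤳ y := by
        have : Y.fromSpecStalk y q ∈ Set.range (Y.fromSpecStalk y).base := ⟨q, rfl⟩
        rw [Scheme.range_fromSpecStalk] at this
        exact this
      have e := DomLib.eq_of_specializes_max hy hsy
      have e2 : q = IsLocalRing.closedPoint (Y.presheaf.stalk y) :=
        (Y.fromSpecStalk y).isEmbedding.injective (e.trans Scheme.fromSpecStalk_closedPoint.symm)
      exact hQ (congrArg PrimeSpectrum.asIdeal e2)
    obtain ⟨b, hb⟩ := hfld.mul_inv_cancel h0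
    exact IsUnit.of_mul_eq_one b hb
  obtain ⟨e, he⟩ := exists_clopen_germ (exists_integral_nhd hY hfin (f ⁻¹ᵁ U)) a
  obtain ⟨hi, hcl⟩ := secMap_props f hU
  have h1 : (1 - e) * a = 0 := TopCat.Presheaf.section_ext Y.sheaf _ _ _ fun x hx => by
    change Y.presheaf.germ (f ⁻¹ᵁ U) x hx ((1 - e) * a) = Y.presheaf.germ (f ⁻¹ᵁ U) x hx 0
    rw [map_mul, map_sub, map_one, map_zero]
    by_cases h : Y.presheaf.germ (f ⁻¹ᵁ U) x hx a = 0
    · rw [h, mul_zero]
    · rw [(he x hx).2 h, sub_self, zero_mul]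
  have hee : e * e = e := TopCat.Presheaf.section_ext Y.sheaf _ _ _ fun x hx => by
    change Y.presheaf.germ (f ⁻¹ᵁ U) x hx (e * e) = Y.presheaf.germ (f ⁻¹ᵁ U) x hx e
    rw [map_mul]
    by_cases h : Y.presheaf.germ (f ⁻¹ᵁ U) x hx a = 0
    · rw [(he x hx).1 h, mul_zero]
    · rw [(he x hx).2 h, one_mul]
  haveI : Nontrivial Γ(f.normalization, U') := ⟨⟨0, r, fun h => by
    rw [← h] at hr; simp at hr⟩⟩
  obtain ⟨s, hs'⟩ := hcl (1 - e) ⟨Polynomial.X ^ 2 - Polynomial.X,
    (Polynomial.monic_X_pow 2).sub_of_left (by rw [Polynomial.degree_X_pow, Polynomial.degree_X]; norm_num), by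
    simp only [Polynomial.eval₂_sub, Polynomial.eval₂_pow, Polynomial.eval₂_X]
    linear_combination hee⟩
  have hsr : s * r = 0 := hi (by rw [map_mul, hs', map_zero]; exact h1)
  have hys : f.toNormalization y ∈ f.normalization.basicOpen s := by
    have : y ∈ Y.basicOpen (secMap f U s) := by
      refine (Y.mem_basicOpen _ y hyW).2 ?_
      rw [show secMap f U s = 1 - e from hs', map_sub, map_one, (he y hyW).1 ha0, sub_zero]
      exact isUnit_one
    rw [show secMap f U s = f.toNormalization.appLE U' (f ⁻¹ᵁ U) hle s from rfl, Scheme.basicOpen_appLE] at this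
    exact this.2
  have hηs : η ∈ f.normalization.basicOpen s := hs.mem_open (f.normalization.basicOpen s).2 hys
  have : η ∈ f.normalization.basicOpen (s * r) := by
    rw [Scheme.basicOpen_mul]; exact ⟨hηs, hr⟩
  rw [hsr] at this
  simp at this

theorem unique_over (hY : Pi1.IsNormalScheme Y)
    (hfin : LocallyFinite (fun Z : ↥(irreducibleComponents ↥Y) => (Z : Set ↥Y)))
    (y y' : Y) (hy : closure ({y} : Set Y) ∈ irreducibleComponents ↥Y)
    (hy' : closure ({y'} : Set Y) ∈ irreducibleComponents ↥Y)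
    (heq : f.toNormalization y = f.toNormalization y') : y = y' := by
  classical
  by_contra hne
  obtain ⟨_, ⟨U, hU, rfl⟩, hyU, -⟩ := X.isBasis_affineOpens.exists_subset_of_mem_open
    (show f.fromNormalization (f.toNormalization y) ∈ (⊤ : X.Opens) from trivial) isOpen_univ
  let U' := f.fromNormalization ⁻¹ᵁ U
  have hW : ∀ z : Y, f.toNormalization z ∈ U' → z ∈ f ⁻¹ᵁ U := fun z hz => by
    change f.fromNormalization (f.toNormalization z) ∈ U at hz
    rwa [← Scheme.Hom.comp_apply, f.toNormalization_fromNormalization] at hz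
  have hle : f ⁻¹ᵁ U ≤ f.toNormalization ⁻¹ᵁ U' := by simp [U', ← Scheme.Hom.comp_preimage]
  have hyW := hW y hyU
  have hy'W := hW y' (heq ▸ hyU)
  let O : Bool → Y.Opens := fun b => Bool.rec ⟨(f ⁻¹ᵁ U : Set Y) \ closure {y}, (f ⁻¹ᵁ U).2.sdiff isClosed_closure⟩
    ⟨(f ⁻¹ᵁ U : Set Y) ∩ closure {y}, (f ⁻¹ᵁ U).2.inter (isOpen_component hY hfin hy)⟩ b
  let t : ∀ b, Γ(Y, O b) := fun b => Bool.rec (motive := fun b => Γ(Y, O b)) 0 1 b
  have hO : ∀ b, O b ≤ f ⁻¹ᵁ U := fun b => by cases b <;> exact fun x hx => hx.1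
  have hcomp : TopCat.Presheaf.IsCompatible Y.sheaf.presheaf O t := fun b c => by
    cases b <;> cases c
    · rfl
    · refine TopCat.Presheaf.section_ext Y.sheaf _ _ _ fun x hx => ?_
      exact absurd hx.2.2 hx.1.2
    · refine TopCat.Presheaf.section_ext Y.sheaf _ _ _ fun x hx => ?_
      exact absurd hx.1.2 hx.2.2
    · rfl
  obtain ⟨e₀, he, -⟩ := Y.sheaf.existsUnique_gluing' O (f ⁻¹ᵁ U) (fun b => homOfLE (hO b))
    (fun x hx => by
      by_cases h : x ∈ closure ({y} : Set Y)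
      · exact Opens.mem_iSup.2 ⟨true, hx, h⟩
      · exact Opens.mem_iSup.2 ⟨false, hx, h⟩) t hcomp
  let e : Γ(Y, f ⁻¹ᵁ U) := e₀
  have h1 : ∀ x (hx : x ∈ f ⁻¹ᵁ U), x ∈ closure ({y} : Set Y) → Y.presheaf.germ (f ⁻¹ᵁ U) x hx e = 1 := fun x hx h => by
    have := congrArg (Y.presheaf.germ (O true) x ⟨hx, h⟩).hom (he true)
    erw [Y.presheaf.germ_res_apply] at this
    exact this.trans (map_one _)
  have h0 : ∀ x (hx : x ∈ f ⁻¹ᵁ U), x ∉ closure ({y} : Set Y) → Y.presheaf.germ (f ⁻¹ᵁ U) x hx e = 0 := fun x hx h => by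
    have := congrArg (Y.presheaf.germ (O false) x ⟨hx, h⟩).hom (he false)
    erw [Y.presheaf.germ_res_apply] at this
    exact this.trans (map_zero _)
  have hee : e * e = e := TopCat.Presheaf.section_ext Y.sheaf _ _ _ fun x hx => by
    change Y.presheaf.germ (f ⁻¹ᵁ U) x hx (e * e) = Y.presheaf.germ (f ⁻¹ᵁ U) x hx e
    rw [map_mul]
    by_cases h : x ∈ closure ({y} : Set Y)
    · rw [h1 x hx h, one_mul]
    · rw [h0 x hx h, mul_zero]
  haveI : Nontrivial Γ(f.normalization, U') := by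
    haveI : Nonempty U' := ⟨⟨_, hyU⟩⟩
    infer_instance
  obtain ⟨hi, hcl⟩ := secMap_props f hU
  obtain ⟨s, hs⟩ := hcl e ⟨Polynomial.X ^ 2 - Polynomial.X,
    (Polynomial.monic_X_pow 2).sub_of_left (by rw [Polynomial.degree_X_pow, Polynomial.degree_X]; norm_num), by
    simp [pow_two, hee]⟩
  have hmem : ∀ z (hz : z ∈ f ⁻¹ᵁ U), f.toNormalization z ∈ f.normalization.basicOpen s ↔
      IsUnit (Y.presheaf.germ (f ⁻¹ᵁ U) z hz e) := fun z hz => by
    rw [← Y.mem_basicOpen e z hz, ← hs,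
      show (secMap f U).hom s = f.toNormalization.appLE U' (f ⁻¹ᵁ U) hle s from rfl, Scheme.basicOpen_appLE]
    exact ⟨fun h => ⟨hz, h⟩, fun h => h.2⟩
  have hyes := (hmem y hyW).2 (by rw [h1 y hyW (subset_closure rfl)]; exact isUnit_one)
  rw [heq, hmem y' hy'W, h0 y' hy'W (fun h => hne (DomLib.eq_of_specializes_max hy' (specializes_iff_mem_closure.2 h)))] at hyes
  haveI := (hY y').1
  exact not_isUnit_zero hyes

end Groth.Agent.NormalizationNormal
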