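import Groth.Agent.EGA2Cone.NormalSect

/-!
# Integrally closed subrings of rings of functions of normal locally integral schemes
-/

set_option autoImplicit false
set_option backward.isDefEq.respectTransparency false
set_option backward.isDefEq.respectTransparency.types false
set_option linter.style.haveILetI false

universe u

open AlgebraicGeometry CategoryTheory TopologicalSpace Opposite

noncomputable section

namespace Groth.Agent.NormalizationNormal

open Groth.Agent.EGA2Cone

variable {V : Scheme.{u}} {W : V.Opens}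

theorem term_mul {K : Type*} [CommRing K] (B Wv Dv Cv Av S : K) (h : S * B = Wv * Dv * Av) (i k : ℕ) :
    B ^ (i + 1 + k) * (Wv ^ (k + 1) * (Dv ^ k * Cv) * S ^ i) =
      Wv ^ (i + 1 + k) * (Dv ^ k * Cv * (Dv * Av) ^ i * B ^ (k + 1)) := by
  linear_combination (B ^ (k + 1) * Wv ^ (k + 1) * Dv ^ k * Cv) * (congrArg (· ^ i) h)

set_option maxHeartbeats 1000000 in
theorem isDomain_integrallyClosed_localization_sub (hn : ∀ x ∈ W, IsDomain (V.presheaf.stalk x) ∧ IsIntegrallyClosed (V.presheaf.stalk x))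
    (hint : ∀ x ∈ W, ∃ N : V.Opens, x ∈ N ∧ N ≤ W ∧ IsIntegral (N : Scheme.{u}))
    {A : Type u} [CommRing A] (φ : A →+* Γ(V, W)) (hφ : Function.Injective φ)
    (hcl : ∀ z, φ.IsIntegralElem z → z ∈ Set.range φ)
    (P : Ideal A) [P.IsPrime] :
    IsDomain (Localization.AtPrime P) ∧ IsIntegrallyClosed (Localization.AtPrime P) := by
  classical
  let S := Localization.AtPrime P
  let al : A →+* S := algebraMap _ _
  let g : ∀ (x : V), x ∈ W → A →+* V.presheaf.stalk x := fun x hx => (V.presheaf.germ W x hx).hom.comp φ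
  have hgext : ∀ u w : A, (∀ (x : V) (hx : x ∈ W), g x hx u = g x hx w) → u = w :=
    fun u w h => hφ (TopCat.Presheaf.section_ext V.sheaf _ _ _ h)
  haveI : Nontrivial A := ⟨⟨0, 1, fun h => P.ne_top_iff_one.1 ‹P.IsPrime›.ne_top (h ▸ P.zero_mem)⟩⟩
  have hE : ∀ a : A, ∃ e : A, ∀ (x : V) (hx : x ∈ W),
      (g x hx a = 0 → g x hx e = 0) ∧ (g x hx a ≠ 0 → g x hx e = 1) := fun a => by
    obtain ⟨e, he⟩ := exists_clopen_germ hint (φ a)
    have hee : e * e = e := TopCat.Presheaf.section_ext V.sheaf _ _ _ fun x hx => by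
      change V.presheaf.germ W x hx (e * e) = V.presheaf.germ W x hx e
      rw [map_mul]
      by_cases h : V.presheaf.germ W x hx (φ a) = 0
      · rw [(he x hx).1 h, mul_zero]
      · rw [(he x hx).2 h, one_mul]
    obtain ⟨e', rfl⟩ := hcl e ⟨Polynomial.X ^ 2 - Polynomial.X,
      (Polynomial.monic_X_pow 2).sub_of_left (by rw [Polynomial.degree_X_pow, Polynomial.degree_X]; norm_num),
      by simp [pow_two, hee]⟩
    exact ⟨e', he⟩
  have hunit : ∀ e : A, e ∉ P → IsUnit (al e) := fun e he =>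
    IsLocalization.map_units S (⟨e, he⟩ : P.primeCompl)
  have hzero : ∀ a b : A, a * b = 0 → al a = 0 ∨ al b = 0 := by
    intro a b hab
    obtain ⟨e, he⟩ := hE a
    have h1 : (1 - e) * a = 0 := hgext _ _ fun x hx => by
      rw [map_mul, map_sub, map_one, map_zero]
      by_cases h : g x hx a = 0
      · rw [h, mul_zero]
      · rw [(he x hx).2 h, sub_self, zero_mul]
    have h2 : e * b = 0 := hgext _ _ fun x hx => by
      rw [map_mul, map_zero]
      by_cases h : g x hx a = 0
      · rw [(he x hx).1 h, zero_mul]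
      · haveI := (hn x hx).1
        have := congrArg (g x hx) hab
        rw [map_mul, map_zero] at this
        rw [(mul_eq_zero.1 this).resolve_left h, mul_zero]
    by_cases heP : e ∈ P
    · refine Or.inl ((hunit (1 - e) fun h => ?_).mul_right_eq_zero.1 (by rw [← map_mul, h1, map_zero]))
      exact P.ne_top_iff_one.1 ‹P.IsPrime›.ne_top (by simpa using P.add_mem h heP)
    · exact Or.inr ((hunit e heP).mul_right_eq_zero.1 (by rw [← map_mul, h2, map_zero]))
  haveI hdom : IsDomain S := by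
    haveI : Nontrivial S := IsLocalization.AtPrime.nontrivial S P
    haveI : NoZeroDivisors S := ⟨fun {u v} huv => ?_⟩
    exact NoZeroDivisors.to_isDomain S
    obtain ⟨a, s, rfl⟩ := IsLocalization.exists_mk'_eq P.primeCompl u
    obtain ⟨b, t, rfl⟩ := IsLocalization.exists_mk'_eq P.primeCompl v
    rw [← IsLocalization.mk'_mul, IsLocalization.mk'_eq_zero_iff] at huv
    obtain ⟨w, hw⟩ := huv
    rcases hzero ((w : A) * a) b (by rw [mul_assoc]; exact hw) with h | h
    · left
      rw [map_mul] at h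
      rw [IsLocalization.mk'_eq_mul_mk'_one, (hunit _ w.2).mul_right_eq_zero.1 h, zero_mul]
    · right
      rw [IsLocalization.mk'_eq_mul_mk'_one, show algebraMap _ S b = 0 from h, zero_mul]
  refine ⟨hdom, (isIntegrallyClosed_iff (FractionRing S)).2 fun {f} hf => ?_⟩
  let af : A →+* FractionRing S := (algebraMap S _).comp al
  obtain ⟨a, b, hb, hab⟩ : ∃ a b : A, af b ≠ 0 ∧ f * af b = af a := by
    obtain ⟨u, v, hv, huv⟩ := IsFractionRing.div_surjective (A := S) f
    obtain ⟨a, s, rfl⟩ := IsLocalization.exists_mk'_eq P.primeCompl u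
    obtain ⟨b, t, rfl⟩ := IsLocalization.exists_mk'_eq P.primeCompl v
    refine ⟨a * t, b * s, ?_, ?_⟩
    · intro h0
      have h0' : al (b * s) = 0 := IsFractionRing.injective S (FractionRing S) (h0.trans (map_zero _).symm)
      rw [map_mul] at h0'
      refine nonZeroDivisors.ne_zero hv ?_
      rw [IsLocalization.mk'_eq_mul_mk'_one, show algebraMap _ S b = 0 from (hunit _ s.2).mul_left_eq_zero.1 h0', zero_mul]
    · have hne : algebraMap S (FractionRing S) (IsLocalization.mk' S b t) ≠ 0 :=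
        (map_ne_zero_iff _ (IsFractionRing.injective _ _)).2 (nonZeroDivisors.ne_zero hv)
      rw [← huv, div_mul_eq_mul_div, div_eq_iff hne]
      simp only [af, RingHom.comp_apply, ← map_mul]
      congr 1
      rw [map_mul, map_mul]
      linear_combination (al (b : A)) * IsLocalization.mk'_spec S a s - (al (a : A)) * IsLocalization.mk'_spec S b t
  obtain ⟨Q, hQ, hQ0⟩ := hf
  obtain ⟨⟨d, hd⟩, hdQ⟩ := IsLocalization.exist_integer_multiples_of_finset P.primeCompl
    ((Finset.range Q.natDegree).image fun i => Q.coeff i)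
  choose c hc using fun i : Fin Q.natDegree => hdQ (Q.coeff i) (Finset.mem_image.2 ⟨i, Finset.mem_range.2 i.2, rfl⟩)
  let n := Q.natDegree
  let Φ : A := (d * a) ^ n + ∑ i : Fin n, (d ^ (n - i - 1) * c i) * (d * a) ^ (i : ℕ) * b ^ (n - i)
  have hΦ : al Φ = 0 := by
    refine IsFractionRing.injective S (FractionRing S) ?_
    rw [map_zero]
    change af Φ = 0
    have h0 := hQ0
    rw [Polynomial.eval₂_eq_sum_range, Finset.sum_range_succ, hQ.coeff_natDegree, map_one, one_mul] at h0
    have key : af Φ = (af d * af b) ^ n *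
        (∑ i ∈ Finset.range n, algebraMap S (FractionRing S) (Q.coeff i) * f ^ i + f ^ n) := by
      simp only [Φ, map_add, map_sum, map_mul, map_pow, mul_add, Finset.mul_sum]
      rw [Finset.sum_range, add_comm]
      congr 1
      · refine Finset.sum_congr rfl fun i _ => ?_
        have hci : af (c i) = af d * algebraMap S (FractionRing S) (Q.coeff i) := by
          have h3 : algebraMap S (FractionRing S) (al (c i)) =
              algebraMap S (FractionRing S) ((d : A) • Q.coeff i) := congrArg _ (hc i)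
          rw [Algebra.smul_def, map_mul] at h3
          exact h3
        obtain ⟨k, hk⟩ : ∃ k, n = (i : ℕ) + 1 + k := ⟨n - i - 1, by omega⟩
        have hpow : (af d * af b) ^ n = (af d * af b) ^ ((i : ℕ) + 1 + k) := by rw [← hk]
        rw [hci, ← hab, show n - (i : ℕ) - 1 = k by omega, show n - (i : ℕ) = k + 1 by omega, hpow]
        ring
      · rw [← hab]; ring
    rw [key]
    exact mul_eq_zero_of_right _ h0
  obtain ⟨⟨w, hw⟩, hwΦ⟩ := (IsLocalization.map_eq_zero_iff P.primeCompl S Φ).1 hΦ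
  obtain ⟨e, he⟩ := hE b
  have heP : e ∉ P := fun heP => hb (by
    have h1 : (1 - e) * b = 0 := hgext _ _ fun x hx => by
      rw [map_mul, map_sub, map_one, map_zero]
      by_cases h : g x hx b = 0
      · rw [h, mul_zero]
      · rw [(he x hx).2 h, sub_self, zero_mul]
    have h2 : al b = 0 := (hunit (1 - e) fun h => P.ne_top_iff_one.1 ‹P.IsPrime›.ne_top
      (by simpa using P.add_mem h heP)).mul_right_eq_zero.1 (by rw [← map_mul, h1, map_zero])
    simp [af, h2])
  have hwn : w ^ n * Φ = 0 := by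
    rcases Nat.eq_zero_or_pos n with hn0 | hn0
    · have hΦ1 : Φ = 1 := by
        haveI : IsEmpty (Fin n) := ⟨fun i => absurd i.2 (by omega)⟩
        simp only [Φ, Finset.univ_eq_empty, Finset.sum_empty, add_zero]
        rw [hn0, pow_zero]
      rw [hΦ1, mul_one] at hwΦ
      exact absurd (show w ∈ P by simp only at hwΦ; rw [hwΦ]; exact P.zero_mem) hw
    · obtain ⟨k, hk⟩ : ∃ k, n = k + 1 := ⟨n - 1, by omega⟩
      rw [hk, pow_succ, mul_assoc, show w * Φ = 0 from hwΦ, mul_zero]
  have hloc : ∀ (x : V) (hx : x ∈ W), g x hx b ≠ 0 →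
      ∃ t : V.presheaf.stalk x, g x hx (w * d * a) = t * g x hx b := by
    intro x hx hbx
    haveI := (hn x hx).1
    haveI := (hn x hx).2
    let g' : A →+* V.presheaf.stalk x := g x hx
    let K := FractionRing (V.presheaf.stalk x)
    let j : V.presheaf.stalk x →+* K := algebraMap _ _
    have hbK : j (g' b) ≠ 0 := (map_ne_zero_iff _ (IsFractionRing.injective _ _)).2 hbx
    let r : K := j (g' (w * d * a)) / j (g' b)
    have hr : IsIntegral (V.presheaf.stalk x) r := by
      refine ⟨Polynomial.X ^ n + ∑ i : Fin n, Polynomial.C (g' (w ^ (n - i) * (d ^ (n - i - 1) * c i))) * Polynomial.X ^ (i : ℕ), ?_, ?_⟩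
      · refine Polynomial.monic_X_pow_add ?_
        refine (Polynomial.degree_sum_le _ _).trans_lt ((Finset.sup_lt_iff (WithBot.bot_lt_coe n)).2 fun i _ => ?_)
        exact (Polynomial.degree_C_mul_X_pow_le _ _).trans_lt (WithBot.coe_lt_coe.2 i.2)
      · simp only [Polynomial.eval₂_add, Polynomial.eval₂_X_pow, Polynomial.eval₂_finsetSum, Polynomial.eval₂_mul,
          Polynomial.eval₂_C]
        have h0 : j (g' (w ^ n * Φ)) = 0 := by rw [hwn, map_zero, map_zero]
        refine (mul_eq_zero.1 (?_ : j (g' b) ^ n * _ = 0)).resolve_left (pow_ne_zero _ hbK)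
        rw [← h0]
        simp only [Φ, map_add, map_sum, map_mul, map_pow, mul_add, Finset.mul_sum, r]
        congr 1
        · rw [div_pow, mul_div_cancel₀ _ (pow_ne_zero _ hbK)]; ring
        · refine Finset.sum_congr rfl fun i _ => ?_
          obtain ⟨k, hk⟩ : ∃ k, n = (i : ℕ) + 1 + k := ⟨n - i - 1, by omega⟩
          have e1 : ∀ z : K, z ^ n = z ^ ((i : ℕ) + 1 + k) := fun z => by rw [← hk]
          rw [show n - (i : ℕ) - 1 = k by omega, show n - (i : ℕ) = k + 1 by omega, div_pow]
          simp only [e1]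
          exact term_div (j (g' b)) (j (g' w)) (j (g' d)) (j (g' (c i))) (j (g' a)) hbK i k
    obtain ⟨t, ht⟩ := IsIntegrallyClosed.isIntegral_iff.1 hr
    refine ⟨t, IsFractionRing.injective (V.presheaf.stalk x) K ?_⟩
    rw [map_mul (algebraMap _ K) t, ht]
    exact (div_mul_cancel₀ _ hbK).symm
  let E : Γ(V, W) := φ e
  let Bv : Γ(V, W) := φ b
  let Wd : Γ(V, W) := φ (w * d * a)
  have hdiv : ∀ p : W, ∃ (N : V.Opens) (hNW : N ≤ W) (s : Γ(V, N)), p.1 ∈ N ∧
      ∀ (y : V) (hy : y ∈ N), V.presheaf.germ W y (hNW hy) (E * Wd) =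
        V.presheaf.germ N y hy s * V.presheaf.germ W y (hNW hy) Bv ∧
        (V.presheaf.germ W y (hNW hy) Bv = 0 → V.presheaf.germ N y hy s = 0) := by
    intro p
    by_cases hbp : V.presheaf.germ W p.1 p.2 Bv = 0
    · obtain ⟨N, hpN, i₁, i₂, hN⟩ := V.presheaf.germ_eq p.1 p.2 p.2 E 0
        (((he p.1 p.2).1 hbp).trans (map_zero (V.presheaf.germ W p.1 p.2).hom).symm)
      refine ⟨N, i₁.le, 0, hpN, fun y hy => ⟨?_, fun _ => map_zero _⟩⟩
      have h1 : V.presheaf.germ W y (i₁.le hy) E = 0 := by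
        have := congrArg (V.presheaf.germ N y hy).hom hN
        rw [V.presheaf.germ_res_apply, map_zero, map_zero] at this
        exact this
      rw [map_mul, h1, map_zero, zero_mul, zero_mul]
    · obtain ⟨t, ht⟩ := hloc p.1 p.2 hbp
      obtain ⟨N₁, hpN₁, s, hs⟩ := V.presheaf.germ_exist t
      have hL : V.presheaf.germ W p.1 p.2 (E * Wd) =
          V.presheaf.germ (N₁ ⊓ W) p.1 ⟨hpN₁, p.2⟩
            (V.presheaf.map (homOfLE inf_le_left).op s * V.presheaf.map (homOfLE inf_le_right).op Bv) := by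
        rw [map_mul, show V.presheaf.germ W p.1 p.2 E = 1 from (he p.1 p.2).2 hbp, one_mul, show V.presheaf.germ W p.1 p.2 Wd = _ from ht, map_mul (V.presheaf.germ (N₁ ⊓ W) p.1 _).hom]
        erw [V.presheaf.germ_res_apply, V.presheaf.germ_res_apply]
        rw [hs]
        rfl
      obtain ⟨N₂, hpN₂, i₁, i₂, hN₂⟩ := V.presheaf.germ_eq p.1 (show p.1 ∈ W from p.2) (show p.1 ∈ N₁ ⊓ W from ⟨hpN₁, p.2⟩) _ _ hL
      obtain ⟨M, hpM, hMW, hMint⟩ := hint p.1 p.2
      obtain ⟨N₃, hpN₃, i₃, i₄, hN₃⟩ := V.presheaf.germ_eq p.1 p.2 p.2 E 1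
        (((he p.1 p.2).2 hbp).trans (map_one (V.presheaf.germ W p.1 p.2).hom).symm)
      refine ⟨N₂ ⊓ N₃, inf_le_left.trans i₁.le, V.presheaf.map (homOfLE (inf_le_left.trans (i₂.le.trans inf_le_left))).op s,
        ⟨hpN₂, hpN₃⟩, fun y hy => ?_⟩
      have h1 : V.presheaf.germ W y (i₁.le hy.1) E = 1 := by
        have := congrArg (V.presheaf.germ N₃ y hy.2).hom hN₃
        rw [V.presheaf.germ_res_apply, map_one, map_one] at this
        exact this
      refine ⟨?_, fun hb0 => ?_⟩
      · have := congrArg (V.presheaf.germ N₂ y hy.1).hom hN₂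
        rw [V.presheaf.germ_res_apply, V.presheaf.germ_res_apply, map_mul (V.presheaf.germ (N₁ ⊓ W) y _).hom,
          V.presheaf.germ_res_apply, V.presheaf.germ_res_apply] at this
        rw [this, V.presheaf.germ_res_apply]
      · haveI := (hn y (i₁.le hy.1)).1
        exact absurd ((he y (i₁.le hy.1)).1 hb0) (by change ¬ V.presheaf.germ W y (i₁.le hy.1) E = 0; rw [h1]; exact one_ne_zero)
  choose N hNW s hpN hs using hdiv
  obtain ⟨σ₀, hσ, -⟩ := V.sheaf.existsUnique_gluing' N W (fun p => homOfLE (hNW p))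
    (fun x hx => Opens.mem_iSup.2 ⟨⟨x, hx⟩, hpN ⟨x, hx⟩⟩) s (fun p q => by
      refine TopCat.Presheaf.section_ext V.sheaf _ _ _ fun y hy => ?_
      change V.presheaf.germ _ y hy (V.presheaf.map _ (s p)) = V.presheaf.germ _ y hy (V.presheaf.map _ (s q))
      rw [V.presheaf.germ_res_apply, V.presheaf.germ_res_apply]
      obtain ⟨hp1, hp2⟩ := hs p y hy.1
      obtain ⟨hq1, hq2⟩ := hs q y hy.2
      haveI := (hn y (hNW p hy.1)).1
      by_cases h0 : V.presheaf.germ W y (hNW p hy.1) Bv = 0
      · rw [hp2 h0, hq2 h0]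
      · exact mul_right_cancel₀ h0 (hp1.symm.trans hq1))
  let σ : Γ(V, W) := σ₀
  have hσ0 : ∀ (y : V) (hy : y ∈ W), V.presheaf.germ W y hy Bv = 0 → V.presheaf.germ W y hy σ = 0 := fun y hy h0 => by
    have h1 := congrArg (V.presheaf.germ (N ⟨y, hy⟩) y (hpN ⟨y, hy⟩)).hom (hσ ⟨y, hy⟩)
    erw [V.presheaf.germ_res_apply] at h1
    exact h1.trans ((hs ⟨y, hy⟩ y (hpN ⟨y, hy⟩)).2 h0)
  have hdiveq : E * Wd = σ * Bv := TopCat.Presheaf.section_ext V.sheaf _ _ _ fun y hy => by
    have h1 := (hs ⟨y, hy⟩ y (hpN ⟨y, hy⟩)).1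
    change (V.presheaf.germ W y hy).hom (E * Wd) = (V.presheaf.germ W y hy).hom (σ * Bv)
    rw [map_mul (V.presheaf.germ W y hy).hom σ Bv]
    refine h1.trans (congrArg (· * _) ?_)
    have := congrArg (V.presheaf.germ (N ⟨y, hy⟩) y (hpN ⟨y, hy⟩)).hom (hσ ⟨y, hy⟩)
    erw [V.presheaf.germ_res_apply] at this
    exact this.symm
  have hσA : φ.IsIntegralElem σ := by
    refine ⟨Polynomial.X * (Polynomial.X ^ n + ∑ i : Fin n, Polynomial.C (w ^ (n - i) * (d ^ (n - i - 1) * c i)) *
      Polynomial.X ^ (i : ℕ)), Polynomial.monic_X.mul (Polynomial.monic_X_pow_add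
      ((Polynomial.degree_sum_le _ _).trans_lt ((Finset.sup_lt_iff (WithBot.bot_lt_coe n)).2 fun i _ =>
        (Polynomial.degree_C_mul_X_pow_le _ _).trans_lt (WithBot.coe_lt_coe.2 i.2)))),
      TopCat.Presheaf.section_ext V.sheaf _ _ _ fun x hx => ?_⟩
    change (V.presheaf.germ W x hx).hom (Polynomial.eval₂ φ σ _) = (V.presheaf.germ W x hx).hom 0
    rw [Polynomial.hom_eval₂, map_zero, Polynomial.eval₂_mul, Polynomial.eval₂_X]
    by_cases hb0 : g x hx b = 0
    · rw [show (V.presheaf.germ W x hx).hom σ = 0 from hσ0 x hx hb0, zero_mul]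
    · haveI := (hn x hx).1
      refine mul_eq_zero_of_right _ ?_
      have hs1 : (V.presheaf.germ W x hx).hom σ * g x hx b = g x hx w * g x hx d * g x hx a := by
        have h1 := congrArg (V.presheaf.germ W x hx).hom hdiveq
        rw [map_mul, map_mul] at h1
        rw [← map_mul (g x hx), ← map_mul (g x hx)]
        refine h1.symm.trans ?_
        rw [show (V.presheaf.germ W x hx).hom E = 1 from (he x hx).2 hb0, one_mul]
        rfl
      change Polynomial.eval₂ (g x hx) _ _ = 0
      refine (mul_eq_zero.1 (?_ : g x hx b ^ n * _ = 0)).resolve_left (pow_ne_zero _ hb0)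
      rw [← map_zero (g x hx), ← hwn]
      simp only [Polynomial.eval₂_add, Polynomial.eval₂_X, Polynomial.eval₂_finsetSum, Polynomial.eval₂_mul,
        Polynomial.eval₂_C, Polynomial.eval₂_pow, Φ, map_add, map_sum, map_mul, map_pow, mul_add, Finset.mul_sum]
      congr 1
      · rw [← mul_pow, mul_comm (g x hx b), hs1]; ring
      · refine Finset.sum_congr rfl fun i _ => ?_
        obtain ⟨k, hk⟩ : ∃ k, n = (i : ℕ) + 1 + k := ⟨n - i - 1, by omega⟩
        have e1 : ∀ z : V.presheaf.stalk x, z ^ n = z ^ ((i : ℕ) + 1 + k) := fun z => by rw [← hk]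
        rw [show n - (i : ℕ) - 1 = k by omega, show n - (i : ℕ) = k + 1 by omega]
        simp only [e1]
        exact term_mul _ _ _ _ _ _ hs1 i k
  obtain ⟨σA, hσA'⟩ := hcl σ hσA
  have hdivA : e * (w * d * a) = σA * b := hφ (by rw [map_mul, map_mul φ σA, hσA']; exact hdiveq)
  have hu : IsUnit (al (e * (w * d))) := by
    rw [map_mul, map_mul]; exact (hunit e heP).mul ((hunit w hw).mul (hunit d hd))
  refine ⟨↑hu.unit⁻¹ * al σA, mul_right_cancel₀ hb ?_⟩
  rw [hab]
  change algebraMap S (FractionRing S) (↑hu.unit⁻¹ * al σA) * algebraMap S (FractionRing S) (al b) =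
    algebraMap S (FractionRing S) (al a)
  rw [← map_mul]
  congr 1
  have h2 : al σA * al b = al (e * (w * d)) * al a := by
    rw [← map_mul, ← map_mul, ← hdivA]; congr 1; ring
  rw [mul_assoc, h2, ← mul_assoc, IsUnit.val_inv_mul, one_mul]


end Groth.Agent.NormalizationNormal
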